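import Groth.Agent.LogDR45.Rule

/-!
# Exactness of the quotient of a logarithmic de Rham complex by a twist

If the residues shifted by the intermediate multiplicities are bijective modulo the equations, every
form whose differential is divisible by the monomial `x^μ` is exact modulo `x^μ`.
-/

set_option autoImplicit false

universe u

open TensorProduct

noncomputable section

namespace Groth.Agent.LogDR45

variable {B L M : Type u} [CommRing B] [AddCommGroup L] [Module B L] [AddCommGroup M] [Module B M]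
  {ι : Type} [LinearOrder ι] [Fintype ι]

/-- A logarithmic de Rham complex in coordinates: the coordinates in `J` carry poles. -/
structure Chart (B L M : Type u) [CommRing B] [AddCommGroup L] [Module B L] [AddCommGroup M] [Module B M]
    (ι : Type) where
  /-- the derivation -/
  δ : B →+ L
  /-- the coordinate forms -/
  bas : Module.Basis ι B L
  /-- the coordinates with poles -/
  J : Finset ι
  /-- their equations -/
  x : ι → B
  /-- the connection -/
  nab : M →+ M ⊗[B] L
  /-- the differentials -/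
  d : ∀ p, Frm B L M p →+ Frm B L M (p + 1)
  δ_mul : ∀ a b, δ (a * b) = a • δ b + b • δ a
  δ_x : ∀ l ∈ J, δ (x l) = x l • bas l
  regular : ∀ l ∈ J, IsSMulRegular M (x l)
  res_δ : ∀ l ∈ J, ∀ f, x l ∣ bas.coord l (δ f)
  d_d : ∀ p z, d (p + 1) (d p z) = 0
  leib : IsLeib δ d
  gen : IsGenRule nab d bas

namespace Chart

variable (C : Chart B L M ι) (ν : ι → ℕ)

/-- The monomial `x^ν`. -/
def mon : B := ∏ l ∈ C.J, C.x l ^ ν l

/-- Its logarithmic differential. -/
def alpha : L := ∑ l ∈ C.J, ν l • C.bas l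

omit [LinearOrder ι] [Fintype ι] in
theorem δ_one : C.δ 1 = 0 := by
  have h := C.δ_mul 1 1
  rw [one_mul, one_smul] at h
  exact left_eq_add.1 h

omit [LinearOrder ι] [Fintype ι] in
theorem δ_mon : C.δ (C.mon ν) = C.mon ν • C.alpha ν := by
  classical
  unfold mon alpha
  have hpow : ∀ l ∈ C.J, ∀ n : ℕ, C.δ (C.x l ^ n) = C.x l ^ n • n • C.bas l := by
    intro l hl n
    induction n with
    | zero => simp [C.δ_one]
    | succ n ih =>
      rw [pow_succ, C.δ_mul, C.δ_x l hl, ih, succ_nsmul, smul_add, ← mul_smul, ← mul_smul,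
        mul_comm (C.x l), add_comm]
  suffices ∀ S ⊆ C.J, C.δ (∏ l ∈ S, C.x l ^ ν l) = (∏ l ∈ S, C.x l ^ ν l) • ∑ l ∈ S, ν l • C.bas l from
    this C.J le_rfl
  intro S hS
  induction S using Finset.induction_on with
  | empty => simp [C.δ_one]
  | insert a S ha ih =>
    rw [Finset.prod_insert ha, Finset.sum_insert ha, C.δ_mul, ih ((Finset.subset_insert _ _).trans hS),
      hpow a (hS (Finset.mem_insert_self _ _)), smul_add, ← mul_smul, ← mul_smul,
      mul_comm (∏ l ∈ S, C.x l ^ ν l), add_comm]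

omit [LinearOrder ι] [Fintype ι] in
theorem mon_add (μ : ι → ℕ) : C.mon (ν + μ) = C.mon ν * C.mon μ := by
  rw [mon, mon, mon, ← Finset.prod_mul_distrib]
  simp [pow_add]

theorem mon_single {j : ι} (hj : j ∈ C.J) : C.mon (Pi.single j 1) = C.x j := by
  rw [mon, Finset.prod_eq_single j (fun l _ hl => by rw [Pi.single_eq_of_ne hl, pow_zero])
    (fun h => absurd hj h), Pi.single_eq_same, pow_one]

theorem regular_mon (p : ℕ) : IsSMulRegular (Frm B L M p) (C.mon ν) := by
  classical
  refine Finset.prod_induction _ (IsSMulRegular (Frm B L M p)) (fun _ _ => IsSMulRegular.mul) ?_ fun l hl => ?_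
  · exact IsSMulRegular.one _
  · exact (isSMulRegular_frm C.bas p (C.regular l hl)).pow _

/-- The twisted differential `d + (dlog x^ν) ∧`. -/
def dTw (p : ℕ) : Frm B L M p →+ Frm B L M (p + 1) := C.d p + (lw p (C.alpha ν)).toAddMonoidHom

omit [LinearOrder ι] [Fintype ι] in
theorem d_mon_smul (p : ℕ) (z : Frm B L M p) : C.d p (C.mon ν • z) = C.mon ν • C.dTw ν p z := by
  rw [C.leib, C.δ_mon, LinearMap.map_smul₂]
  simp [dTw]

theorem dTw_dTw (p : ℕ) (z : Frm B L M p) : C.dTw ν (p + 1) (C.dTw ν p z) = 0 := by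
  refine C.regular_mon ν (p + 2) ?_
  show C.mon ν • C.dTw ν (p + 1) (C.dTw ν p z) = C.mon ν • (0 : Frm B L M (p + 2))
  rw [← C.d_mon_smul, ← C.d_mon_smul, C.d_d, smul_zero]

omit [LinearOrder ι] [Fintype ι] in
theorem dTw_leib (p : ℕ) (f : B) (z : Frm B L M p) :
    C.dTw ν p (f • z) = f • C.dTw ν p z + lw p (C.δ f) z := by
  simp only [dTw, AddMonoidHom.add_apply, LinearMap.toAddMonoidHom_coe, C.leib p f z, map_smul, smul_add]
  abel

/-- The twisted connection. -/
def nabTw (e : M) : M ⊗[B] L := C.nab e + e ⊗ₜ[B] C.alpha ν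

omit [LinearOrder ι] [Fintype ι] in
theorem dTw_gen (p : ℕ) (e : M) (s : Fin p → ι) :
    C.dTw ν p (e ⊗ₜ[B] exteriorPower.ιMulti B p (C.bas ∘ s)) =
      tw1 p (C.nabTw ν e) (exteriorPower.ιMulti B p (C.bas ∘ s)) := by
  simp only [dTw, nabTw, AddMonoidHom.add_apply, LinearMap.toAddMonoidHom_coe, C.gen p e s, lw_tmul, map_add,
    LinearMap.add_apply, tw1_tmul]

variable (j : ι)

/-- The shifted residue along the `j`-th coordinate. -/
def theta (e : M) : M := evalR (C.bas.coord j) (C.nabTw ν e)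

omit [LinearOrder ι] [Fintype ι] in
theorem theta_eq {j : ι} (hj : j ∈ C.J) (e : M) :
    C.theta ν j e = evalR (C.bas.coord j) (C.nab e) + ν j • e := by
  classical
  rw [theta, nabTw, map_add, evalR_tmul]
  congr 1
  rw [alpha, map_sum, Finset.sum_eq_single j, map_nsmul, Module.Basis.coord_apply, Module.Basis.repr_self,
    Finsupp.single_eq_same, smul_assoc, one_smul]
  · intro l _ hl
    rw [map_nsmul, Module.Basis.coord_apply, Module.Basis.repr_self,
      Finsupp.single_eq_of_ne (Ne.symm hl), smul_zero]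
  · exact fun h => absurd hj h

omit [LinearOrder ι] [Fintype ι] in
theorem theta_add (e e' : M) : C.theta ν j (e + e') = C.theta ν j e + C.theta ν j e' := by
  simp only [theta, nabTw, map_add, TensorProduct.add_tmul]; abel

/-- `Θ = d h + h d`. -/
def big : ∀ p, Frm B L M p →+ Frm B L M p
  | 0 => (con (C.bas.coord j) 0).toAddMonoidHom.comp (C.dTw ν 0)
  | p + 1 => (con (C.bas.coord j) (p + 1)).toAddMonoidHom.comp (C.dTw ν (p + 1)) +
      (C.dTw ν p).comp (con (C.bas.coord j) p).toAddMonoidHom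

omit [LinearOrder ι] [Fintype ι] in
theorem big_smul : ∀ (p : ℕ) (f : B) (z : Frm B L M p),
    C.big ν j p (f • z) = f • C.big ν j p z + C.bas.coord j (C.δ f) • z
  | 0, f, z => by
    simp only [big, AddMonoidHom.comp_apply, LinearMap.toAddMonoidHom_coe, C.dTw_leib, map_add, map_smul,
      con_lw_zero]
  | p + 1, f, z => by
    simp only [big, AddMonoidHom.add_apply, AddMonoidHom.comp_apply, LinearMap.toAddMonoidHom_coe, C.dTw_leib,
      map_add, map_smul, con_lw, smul_add]
    abel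

omit [LinearOrder ι] [Fintype ι] in
theorem cPow_ιMulti_mem (p : ℕ) (s : Fin (p + 1) → ι) :
    cPow (C.bas.coord j) p (exteriorPower.ιMulti B (p + 1) (C.bas ∘ s)) ∈
      AddSubgroup.closure (Set.range fun t : Fin p → ι => exteriorPower.ιMulti B p (C.bas ∘ t)) := by
  classical
  induction p with
  | zero =>
    rw [← Fin.cons_self_tail (C.bas ∘ s), ← ext1_ιMulti, cPow_ext1_zero]
    simp only [Function.comp_apply, Module.Basis.coord_apply, Module.Basis.repr_self, Finsupp.single_apply]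
    split_ifs
    · rw [one_smul]; exact AddSubgroup.subset_closure ⟨Fin.tail s, rfl⟩
    · rw [zero_smul]; exact zero_mem _
  | succ p ih =>
    rw [← Fin.cons_self_tail (C.bas ∘ s), ← ext1_ιMulti, cPow_ext1]
    refine sub_mem ?_ ?_
    · simp only [Function.comp_apply, Module.Basis.coord_apply, Module.Basis.repr_self, Finsupp.single_apply]
      split_ifs
      · rw [one_smul]; exact AddSubgroup.subset_closure ⟨Fin.tail s, rfl⟩
      · rw [zero_smul]; exact zero_mem _
    · have h := ih (Fin.tail s)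
      show ext1 p (C.bas (s 0)) (cPow (C.bas.coord j) p (exteriorPower.ιMulti B (p + 1) (Fin.tail (C.bas ∘ s)))) ∈ _
      change cPow (C.bas.coord j) p (exteriorPower.ιMulti B (p + 1) (Fin.tail (C.bas ∘ s))) ∈ _ at h
      generalize cPow (C.bas.coord j) p (exteriorPower.ιMulti B (p + 1) (Fin.tail (C.bas ∘ s))) = η at h
      induction h using AddSubgroup.closure_induction with
      | mem y hy =>
        obtain ⟨t, rfl⟩ := hy
        refine AddSubgroup.subset_closure ⟨Fin.cons (s 0) t, ?_⟩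
        show _ = ext1 p _ _
        rw [ext1_ιMulti]; exact congrArg _ (Fin.comp_cons _ _ _)
      | zero => rw [map_zero]; exact zero_mem _
      | add a b _ _ ha hb => rw [map_add]; exact add_mem ha hb
      | neg a _ ha => rw [map_neg]; exact neg_mem ha

omit [LinearOrder ι] [Fintype ι] in
theorem big_gen : ∀ (p : ℕ) (e : M) (s : Fin p → ι),
    C.big ν j p (e ⊗ₜ[B] exteriorPower.ιMulti B p (C.bas ∘ s)) =
      C.theta ν j e ⊗ₜ[B] exteriorPower.ιMulti B p (C.bas ∘ s)
  | 0, e, s => by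
    simp only [big, AddMonoidHom.comp_apply, LinearMap.toAddMonoidHom_coe, C.dTw_gen, con_tw1_zero, theta]
  | p + 1, e, s => by
    simp only [big, AddMonoidHom.add_apply, AddMonoidHom.comp_apply, LinearMap.toAddMonoidHom_coe, C.dTw_gen,
      con_tw1, theta, con_tmul]
    suffices C.dTw ν p (e ⊗ₜ[B] cPow (C.bas.coord j) p (exteriorPower.ιMulti B (p + 1) (C.bas ∘ s))) =
        tw1 p (C.nabTw ν e) (cPow (C.bas.coord j) p (exteriorPower.ιMulti B (p + 1) (C.bas ∘ s))) by
      rw [this]; abel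
    have h := C.cPow_ιMulti_mem j p s
    generalize cPow (C.bas.coord j) p (exteriorPower.ιMulti B (p + 1) (C.bas ∘ s)) = η at h
    induction h using AddSubgroup.closure_induction with
    | mem y hy =>
      obtain ⟨t, rfl⟩ := hy
      exact C.dTw_gen ν p e t
    | zero => simp
    | add a b _ _ ha hb => simp only [TensorProduct.tmul_add, map_add, ha, hb]
    | neg a _ ha => simp only [TensorProduct.tmul_neg, map_neg, ha]

/-- Multiples of `b`. -/
abbrev mult (b : B) (N : Type u) [AddCommGroup N] [Module B N] : Submodule B N :=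
  LinearMap.range (LinearMap.lsmul B N b)

variable {j} (hj : j ∈ C.J)
include hj

omit [LinearOrder ι] [Fintype ι] in
theorem big_smul_mem (p : ℕ) (f : B) (z : Frm B L M p) :
    C.big ν j p (f • z) - f • C.big ν j p z ∈ mult (C.x j) _ := by
  obtain ⟨g, hg⟩ := C.res_δ j hj f
  rw [C.big_smul, add_sub_cancel_left, hg]
  exact ⟨g • z, (mul_smul _ _ _).symm⟩

omit [LinearOrder ι] [Fintype ι] in
theorem big_mem (p : ℕ) {z : Frm B L M p} (hz : z ∈ mult (C.x j) _) : C.big ν j p z ∈ mult (C.x j) _ := by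
  obtain ⟨w, rfl⟩ := hz
  have h := C.big_smul_mem ν hj p (C.x j) w
  simpa using add_mem h ((⟨_, rfl⟩ : C.x j • C.big ν j p w ∈ mult (C.x j) _))

omit [LinearOrder ι] [Fintype ι] in
theorem theta_smul (f : B) (e : M) : C.theta ν j (f • e) - f • C.theta ν j e ∈ mult (C.x j) M := by
  have hη : (exteriorPower.ιMulti B 0 (C.bas ∘ Fin.elim0) : ↥(⋀[B]^0 L)) =
      exteriorPower.ιMulti B 0 (C.bas ∘ Fin.elim0) := rfl
  have h := C.big_smul_mem ν hj 0 f (e ⊗ₜ[B] exteriorPower.ιMulti B 0 (C.bas ∘ Fin.elim0))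
  rw [C.big_gen, TensorProduct.smul_tmul', C.big_gen, TensorProduct.smul_tmul', ← TensorProduct.sub_tmul] at h
  obtain ⟨w, hw⟩ := h
  let φ : Frm B L M 0 →ₗ[B] M :=
    (TensorProduct.rid B M).toLinearMap ∘ₗ TensorProduct.map LinearMap.id (exteriorPower.zeroEquiv B L).toLinearMap
  refine ⟨φ w, ?_⟩
  have := congrArg φ hw
  simpa [φ] using this

theorem big_bijective_mod (p : ℕ) (hsurj : ∀ m, ∃ m', C.theta ν j m' - m ∈ mult (C.x j) M)
    (hinj : ∀ m, C.theta ν j m ∈ mult (C.x j) M → m ∈ mult (C.x j) M) :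
    (∀ z, ∃ u, C.big ν j p u - z ∈ mult (C.x j) (Frm B L M p)) ∧
      ∀ z, C.big ν j p z ∈ mult (C.x j) (Frm B L M p) → z ∈ mult (C.x j) (Frm B L M p) := by
  classical
  haveI : Fintype (Set.powersetCard ι p) := Fintype.ofFinite _
  constructor
  · intro z
    rw [← sum_coordF C.bas p z]
    choose g hg using hsurj
    refine ⟨∑ s, g (coordF C.bas p s z) ⊗ₜ[B] C.bas.exteriorPower p s, ?_⟩
    rw [map_sum, ← Finset.sum_sub_distrib]
    refine sum_mem fun s _ => ?_
    rw [exteriorPower.basis_apply, exteriorPower.ιMulti_family, C.big_gen, ← TensorProduct.sub_tmul]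
    obtain ⟨w, hw⟩ := hg (coordF C.bas p s z)
    exact ⟨w ⊗ₜ[B] _, by rw [← hw, LinearMap.lsmul_apply, LinearMap.lsmul_apply, TensorProduct.smul_tmul']⟩
  · intro z hz
    have key : ∀ s, coordF C.bas p s (C.big ν j p z) - C.theta ν j (coordF C.bas p s z) ∈ mult (C.x j) M := by
      intro s
      conv => enter [2, 1, 2, 2]; rw [← sum_coordF C.bas p z]
      rw [map_sum, map_sum]
      simp only [exteriorPower.basis_apply, exteriorPower.ιMulti_family, C.big_gen, coordF_tmul]
      simp only [← exteriorPower.ιMulti_family.eq_def, ← exteriorPower.basis_apply, Module.Basis.coord_apply,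
        Module.Basis.repr_self, Finsupp.single_apply, ite_smul, one_smul, zero_smul,
        Finset.sum_ite_eq', Finset.mem_univ, if_true]
      exact (sub_self (C.theta ν j (coordF C.bas p s z))).symm ▸ zero_mem _
    rw [← sum_coordF C.bas p z]
    refine sum_mem fun s _ => ?_
    obtain ⟨w, hw⟩ := hinj _ (by
      have h1 : coordF C.bas p s (C.big ν j p z) ∈ mult (C.x j) M := by
        obtain ⟨v, hv⟩ := hz
        exact ⟨coordF C.bas p s v, by rw [← hv, LinearMap.lsmul_apply, LinearMap.lsmul_apply, map_smul]⟩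
      simpa using sub_mem h1 (key s))
    exact ⟨w ⊗ₜ[B] _, by rw [← hw, LinearMap.lsmul_apply, LinearMap.lsmul_apply, TensorProduct.smul_tmul']⟩

omit [LinearOrder ι] [Fintype ι] in
theorem dTw_mem (p : ℕ) {z : Frm B L M p} (hz : z ∈ mult (C.x j) _) : C.dTw ν p z ∈ mult (C.x j) _ := by
  obtain ⟨w, rfl⟩ := hz
  refine ⟨C.dTw ν p w + lw p (C.bas j) w, ?_⟩
  rw [LinearMap.lsmul_apply, LinearMap.lsmul_apply, C.dTw_leib, C.δ_x j hj, LinearMap.map_smul₂, smul_add]

/-- One step: the quotient of the twisted complex by `x_j` is exact in positive degrees. -/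
theorem step (hsurj : ∀ m, ∃ m', C.theta ν j m' - m ∈ mult (C.x j) M)
    (hinj : ∀ m, C.theta ν j m ∈ mult (C.x j) M → m ∈ mult (C.x j) M) :
    (∀ v, C.dTw ν 0 v ∈ mult (C.x j) (Frm B L M 1) → v ∈ mult (C.x j) (Frm B L M 0)) ∧
    ∀ (p : ℕ) (v : Frm B L M (p + 1)), C.dTw ν (p + 1) v ∈ mult (C.x j) _ →
      ∃ u, v - C.dTw ν p u ∈ mult (C.x j) _ := by
  constructor
  · intro v hv
    refine (C.big_bijective_mod ν hj 0 hsurj hinj).2 v ?_
    obtain ⟨w, hw⟩ := hv
    exact ⟨con (C.bas.coord j) 0 w, by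
      simp only [big, AddMonoidHom.comp_apply, LinearMap.toAddMonoidHom_coe, ← hw, LinearMap.lsmul_apply, map_smul]⟩
  · intro p v hv
    obtain ⟨w, hw⟩ := (C.big_bijective_mod ν hj (p + 1) hsurj hinj).1 v
    -- `d w` is divisible
    have hdw : C.dTw ν (p + 1) w ∈ mult (C.x j) _ := by
      refine (C.big_bijective_mod ν hj (p + 2) hsurj hinj).2 _ ?_
      have h1 : C.big ν j (p + 2) (C.dTw ν (p + 1) w) = C.dTw ν (p + 1) (C.big ν j (p + 1) w) := by
        simp only [big, AddMonoidHom.add_apply, AddMonoidHom.comp_apply, LinearMap.toAddMonoidHom_coe, map_add,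
          C.dTw_dTw, map_zero, zero_add, add_zero]
      rw [h1]
      have h2 := C.dTw_mem ν hj (p + 1) hw
      rw [map_sub] at h2
      simpa using add_mem h2 hv
    refine ⟨con (C.bas.coord j) p w, ?_⟩
    obtain ⟨y, hy⟩ := hdw
    have h3 : con (C.bas.coord j) (p + 1) (C.dTw ν (p + 1) w) ∈ mult (C.x j) _ :=
      ⟨con (C.bas.coord j) (p + 1) y, by rw [← hy, LinearMap.lsmul_apply, LinearMap.lsmul_apply, map_smul]⟩
    have := sub_mem h3 hw
    convert this using 1
    simp only [big, AddMonoidHom.add_apply, AddMonoidHom.comp_apply, LinearMap.toAddMonoidHom_coe]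
    abel

omit hj

/-- Divisibility of the differential by `x^μ` gives exactness modulo `x^μ`. -/
theorem exists_primitive (μ : ι → ℕ)
    (hsurj : ∀ j ∈ C.J, ∀ ν : ι → ℕ, ν j < μ j → ∀ m, ∃ m', C.theta ν j m' - m ∈ mult (C.x j) M)
    (hinj : ∀ j ∈ C.J, ∀ ν : ι → ℕ, ν j < μ j → ∀ m, C.theta ν j m ∈ mult (C.x j) M → m ∈ mult (C.x j) M) :
    (∀ v, C.d 0 v ∈ mult (C.mon μ) (Frm B L M 1) → v ∈ mult (C.mon μ) (Frm B L M 0)) ∧
    ∀ (p : ℕ) (v : Frm B L M (p + 1)), C.d (p + 1) v ∈ mult (C.mon μ) _ →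
      ∃ u, v - C.d p u ∈ mult (C.mon μ) _ := by
  classical
  suffices H : ∀ (n : ℕ) (ν : ι → ℕ), (∀ l, ν l ≤ μ l) → ∑ l ∈ C.J, (μ l - ν l) = n →
      (∀ v, C.d 0 v ∈ mult (C.mon μ) (Frm B L M 1) → v ∈ mult (C.mon ν) _ → v ∈ mult (C.mon μ) _) ∧
      ∀ (p : ℕ) (v : Frm B L M (p + 1)), C.d (p + 1) v ∈ mult (C.mon μ) _ → v ∈ mult (C.mon ν) _ →
        ∃ u, v - C.d p u ∈ mult (C.mon μ) _ by
    have h1 : C.mon 0 = 1 := by simp [mon]
    obtain ⟨h, h'⟩ := H _ 0 (fun l => Nat.zero_le _) rfl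
    exact ⟨fun v hv => h v hv ⟨v, by simp [h1]⟩, fun p v hv => h' p v hv ⟨v, by simp [h1]⟩⟩
  intro n
  induction n with
  | zero =>
    intro ν hν hn
    have hmon : C.mon ν = C.mon μ := Finset.prod_congr rfl fun l hl => by
      have h := Finset.sum_eq_zero_iff.1 hn l hl
      rw [show ν l = μ l by have := hν l; omega]
    exact ⟨fun v _ hv => hmon ▸ hv, fun p v _ hv => ⟨0, by rw [map_zero, sub_zero]; exact hmon ▸ hv⟩⟩
  | succ n ih =>
    intro ν hν hn
    obtain ⟨j, hj, hlt⟩ : ∃ j ∈ C.J, ν j < μ j := by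
      by_contra h
      push Not at h
      rw [Finset.sum_eq_zero fun l hl => Nat.sub_eq_zero_of_le (h l hl)] at hn
      omega
    have hν' : ∀ l, (ν + Pi.single j 1 : ι → ℕ) l ≤ μ l := fun l => by
      rcases eq_or_ne l j with rfl | hl
      · simp only [Pi.add_apply, Pi.single_eq_same]; omega
      · simpa [Pi.single_eq_of_ne hl] using hν l
    have hsum : ∑ l ∈ C.J, (μ l - (ν + Pi.single j 1 : ι → ℕ) l) = n := by
      rw [← Finset.add_sum_erase _ _ hj] at hn ⊢
      rw [Finset.sum_congr rfl fun l hl => by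
        rw [Pi.add_apply, Pi.single_eq_of_ne (Finset.ne_of_mem_erase hl), add_zero]]
      simp only [Pi.add_apply, Pi.single_eq_same]
      omega
    obtain ⟨I0, I1⟩ := ih _ hν' hsum
    obtain ⟨S0, S1⟩ := C.step ν hj (hsurj j hj ν hlt) (hinj j hj ν hlt)
    have hμ : C.mon μ = C.mon ν * (C.x j * C.mon (μ - (ν + Pi.single j 1))) := by
      rw [← C.mon_single hj, ← C.mon_add, ← C.mon_add]
      congr 1
      funext l
      have := hν' l
      simp only [Pi.add_apply, Pi.sub_apply] at this ⊢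
      omega
    have hdiv : ∀ (q : ℕ) (v' : Frm B L M q), C.d q (C.mon ν • v') ∈ mult (C.mon μ) _ →
        C.dTw ν q v' ∈ mult (C.x j) _ := by
      rintro q v' ⟨w, hw⟩
      refine ⟨C.mon (μ - (ν + Pi.single j 1)) • w, C.regular_mon ν (q + 1) ?_⟩
      show C.mon ν • (C.x j • C.mon (μ - (ν + Pi.single j 1)) • w) = C.mon ν • C.dTw ν q v'
      rw [← C.d_mon_smul, ← hw, ← mul_smul, ← mul_smul, mul_assoc, ← hμ]
      rfl
    have hup : ∀ (q : ℕ) (z : Frm B L M q), z ∈ mult (C.x j) _ →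
        C.mon ν • z ∈ mult (C.mon (ν + Pi.single j 1)) _ := by
      rintro q _ ⟨z, rfl⟩
      exact ⟨z, by simp [C.mon_add, C.mon_single hj, mul_smul]⟩
    refine ⟨fun v hv hvν => ?_, fun p v hv hvν => ?_⟩
    · obtain ⟨v', rfl⟩ := hvν
      exact I0 _ hv (hup 0 v' (S0 v' (hdiv 0 v' hv)))
    · obtain ⟨v', rfl⟩ := hvν
      obtain ⟨u, hu⟩ := S1 p v' (hdiv (p + 1) v' hv)
      obtain ⟨u', hu'⟩ := I1 p (C.mon ν • v' - C.d p (C.mon ν • u))
        (by rw [map_sub, C.d_d, sub_zero]; exact hv) (by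
          rw [C.d_mon_smul, ← smul_sub]; exact hup _ _ hu)
      exact ⟨C.mon ν • u + u', by rw [map_add, LinearMap.lsmul_apply]; rwa [sub_sub] at hu'⟩

end Chart

end Groth.Agent.LogDR45
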