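import Groth.Prelude.Def_Conn
import Mathlib.LinearAlgebra.ExteriorPower.Basis
import Mathlib.LinearAlgebra.CliffordAlgebra.Contraction

/-!
# Contraction and exterior multiplication on `M ⊗ Λ^p L`
-/

set_option autoImplicit false

universe u

open TensorProduct

noncomputable section

namespace Groth.Agent.LogDR45

variable {B L M : Type u} [CommRing B] [AddCommGroup L] [Module B L] [AddCommGroup M] [Module B M]

theorem coe_ιMulti_cons {p : ℕ} (v : L) (w : Fin p → L) :
    (exteriorPower.ιMulti B (p + 1) (Fin.cons v w) : ExteriorAlgebra B L) =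
      ExteriorAlgebra.ι B v * (exteriorPower.ιMulti B p w : ExteriorAlgebra B L) := by
  rw [exteriorPower.ιMulti_apply_coe, exteriorPower.ιMulti_apply_coe, ExteriorAlgebra.ιMulti_succ_apply,
    Fin.cons_zero, Matrix.vecTail]
  exact congrArg (fun z => ExteriorAlgebra.ι B v * ExteriorAlgebra.ιMulti B p z) (funext fun i => Fin.cons_succ _ _ i)

/-- A one-form as an element of `Λ¹`. -/
def one1 : L →ₗ[B] ↥(⋀[B]^1 L) := (exteriorPower.oneEquiv B L).symm.toLinearMap

theorem coe_one1 (v : L) : (one1 (B := B) v : ExteriorAlgebra B L) = ExteriorAlgebra.ι B v := by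
  change (((exteriorPower.oneEquiv B L).symm v) : ExteriorAlgebra B L) = _
  rw [exteriorPower.oneEquiv_symm_apply]
  simp [ExteriorAlgebra.ιMulti_succ_apply]

/-- `v ∧ -`. -/
def ext1 (p : ℕ) : L →ₗ[B] ↥(⋀[B]^p L) →ₗ[B] ↥(⋀[B]^(p + 1) L) := Conn.wedge p ∘ₗ one1

theorem coe_ext1 (p : ℕ) (v : L) (η : ↥(⋀[B]^p L)) :
    (ext1 p v η : ExteriorAlgebra B L) = ExteriorAlgebra.ι B v * η := by
  show (Conn.wedge p (one1 v) η : ExteriorAlgebra B L) = _
  rw [Conn.wedge_apply_coe, coe_one1]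

theorem ext1_ιMulti {p : ℕ} (v : L) (w : Fin p → L) :
    ext1 p v (exteriorPower.ιMulti B p w) = exteriorPower.ιMulti B (p + 1) (Fin.cons v w) :=
  Subtype.ext (by rw [coe_ext1, coe_ιMulti_cons])

theorem ext1_self (p : ℕ) (v : L) (η : ↥(⋀[B]^p L)) : ext1 (p + 1) v (ext1 p v η) = 0 :=
  Subtype.ext (by rw [coe_ext1, coe_ext1, ← mul_assoc, ExteriorAlgebra.ι_sq_zero, zero_mul]; rfl)

theorem ext1_eq_zero_of_mem {p : ℕ} (w : Fin p → L) (i : Fin p) :
    ext1 p (w i) (exteriorPower.ιMulti B p w) = 0 := by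
  rw [ext1_ιMulti]
  refine (exteriorPower.ιMulti B (p + 1)).map_eq_zero_of_eq _ (i := 0) (j := i.succ) ?_ (Fin.succ_ne_zero i).symm
  simp

theorem mul_comm_ι (v w : L) :
    ExteriorAlgebra.ι B v * ExteriorAlgebra.ι B w = -(ExteriorAlgebra.ι B w * ExteriorAlgebra.ι B v) :=
  eq_neg_of_add_eq_zero_left (ExteriorAlgebra.ι_add_mul_swap v w)

variable (lam : L →ₗ[B] B)

/-- The contraction on the exterior algebra. -/
def cAlg : ExteriorAlgebra B L →ₗ[B] ExteriorAlgebra B L :=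
  CliffordAlgebra.contractLeft (R := B) (Q := (0 : QuadraticForm B L)) lam

theorem cAlg_ι_mul (v : L) (η : ExteriorAlgebra B L) :
    cAlg lam (ExteriorAlgebra.ι B v * η) = lam v • η - ExteriorAlgebra.ι B v * cAlg lam η :=
  CliffordAlgebra.contractLeft_ι_mul (Q := (0 : QuadraticForm B L)) (d := lam) v η

theorem cAlg_one : cAlg lam 1 = 0 :=
  CliffordAlgebra.contractLeft_one (Q := (0 : QuadraticForm B L)) (d := lam)

theorem exists_cAlg_ιMulti : ∀ (p : ℕ) (w : Fin (p + 1) → L),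
    ∃ η : ↥(⋀[B]^p L), (η : ExteriorAlgebra B L) =
      cAlg lam (exteriorPower.ιMulti B (p + 1) w : ExteriorAlgebra B L) := by
  intro p
  induction p with
  | zero =>
    intro w
    refine ⟨lam (w 0) • exteriorPower.ιMulti B 0 (fun i => i.elim0), ?_⟩
    rw [← Fin.cons_self_tail w, coe_ιMulti_cons, cAlg_ι_mul, Fin.cons_zero, Submodule.coe_smul]
    simp [cAlg_one]
  | succ p ih =>
    intro w
    obtain ⟨η, hη⟩ := ih (Fin.tail w)
    refine ⟨lam (w 0) • exteriorPower.ιMulti B (p + 1) (Fin.tail w) - ext1 p (w 0) η, ?_⟩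
    conv_rhs => rw [← Fin.cons_self_tail w, coe_ιMulti_cons, cAlg_ι_mul]
    rw [Submodule.coe_sub, Submodule.coe_smul, coe_ext1, hη]

theorem cAlg_mem (p : ℕ) (η : ↥(⋀[B]^(p + 1) L)) : cAlg lam (η : ExteriorAlgebra B L) ∈ ⋀[B]^p L := by
  have h : η ∈ Submodule.span B (Set.range (exteriorPower.ιMulti B (p + 1) (M := L))) := by
    rw [exteriorPower.ιMulti_span]; trivial
  induction h using Submodule.span_induction with
  | mem y hy =>
    obtain ⟨w, rfl⟩ := hy
    obtain ⟨z, hz⟩ := exists_cAlg_ιMulti lam p w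
    exact hz ▸ z.2
  | zero => simp
  | add a b _ _ ha hb => rw [Submodule.coe_add, map_add]; exact Submodule.add_mem _ ha hb
  | smul r a _ ha => rw [Submodule.coe_smul, map_smul]; exact Submodule.smul_mem _ r ha

/-- Contraction with a functional. -/
def cPow (p : ℕ) : ↥(⋀[B]^(p + 1) L) →ₗ[B] ↥(⋀[B]^p L) :=
  ((cAlg lam).comp (Submodule.subtype _)).codRestrict _ (cAlg_mem lam p)

theorem coe_cPow (p : ℕ) (η : ↥(⋀[B]^(p + 1) L)) :
    (cPow lam p η : ExteriorAlgebra B L) = cAlg lam (η : ExteriorAlgebra B L) := rfl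

theorem cPow_ext1 (p : ℕ) (v : L) (η : ↥(⋀[B]^(p + 1) L)) :
    cPow lam (p + 1) (ext1 (p + 1) v η) = lam v • η - ext1 p v (cPow lam p η) :=
  Subtype.ext (by rw [coe_cPow, coe_ext1, cAlg_ι_mul, Submodule.coe_sub, Submodule.coe_smul, coe_ext1, coe_cPow])

theorem cPow_ext1_zero (v : L) (η : ↥(⋀[B]^0 L)) : cPow lam 0 (ext1 0 v η) = lam v • η := by
  refine Subtype.ext ?_
  rw [coe_cPow, coe_ext1, cAlg_ι_mul, Submodule.coe_smul]
  have : cAlg lam (η : ExteriorAlgebra B L) = 0 := by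
    have h : η ∈ Submodule.span B (Set.range (exteriorPower.ιMulti B 0 (M := L))) := by
      rw [exteriorPower.ιMulti_span]; trivial
    induction h using Submodule.span_induction with
    | mem y hy => obtain ⟨w, rfl⟩ := hy; simp [cAlg_one]
    | zero => simp
    | add a b _ _ ha hb => rw [Submodule.coe_add, map_add, ha, hb, add_zero]
    | smul r a _ ha => rw [Submodule.coe_smul, map_smul, ha, smul_zero]
  rw [this, mul_zero, sub_zero]

/-- The terms `M ⊗ Λ^p L`. -/
abbrev Frm (B L M : Type u) [CommRing B] [AddCommGroup L] [Module B L] [AddCommGroup M] [Module B M] (p : ℕ) :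
    Type u := M ⊗[B] ↥(⋀[B]^p L)

/-- `v ∧ -` on `M ⊗ Λ^p L`. -/
def lw (p : ℕ) : L →ₗ[B] Frm B L M p →ₗ[B] Frm B L M (p + 1) :=
  TensorProduct.AlgebraTensorModule.lTensor B M (N := ↥(⋀[B]^p L)) (Q := ↥(⋀[B]^(p + 1) L)) ∘ₗ ext1 p

theorem lw_tmul (p : ℕ) (v : L) (m : M) (η : ↥(⋀[B]^p L)) :
    lw p v (m ⊗ₜ[B] η) = m ⊗ₜ[B] ext1 p v η := rfl

theorem lw_self (p : ℕ) (v : L) (z : Frm B L M p) : lw (p + 1) v (lw p v z) = 0 := by
  induction z using TensorProduct.induction_on with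
  | zero => simp
  | tmul m η => rw [lw_tmul, lw_tmul, ext1_self, TensorProduct.tmul_zero]
  | add a b ha hb => rw [map_add, map_add, ha, hb, add_zero]

/-- `(m ⊗ v, η) ↦ m ⊗ (v ∧ η)`. -/
def tw1 (p : ℕ) : M ⊗[B] L →ₗ[B] ↥(⋀[B]^p L) →ₗ[B] Frm B L M (p + 1) :=
  Conn.twedge p ∘ₗ Conn.toOne

theorem tw1_tmul (p : ℕ) (m : M) (v : L) (η : ↥(⋀[B]^p L)) :
    tw1 p (m ⊗ₜ[B] v) η = m ⊗ₜ[B] ext1 p v η := by
  show Conn.twedge p (Conn.toOne (m ⊗ₜ[B] v)) η = _
  rw [Conn.toOne_tmul, Conn.twedge_tmul]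
  rfl

/-- Contraction on `M ⊗ Λ^(p+1) L`. -/
def con (p : ℕ) : Frm B L M (p + 1) →ₗ[B] Frm B L M p := TensorProduct.map LinearMap.id (cPow lam p)

theorem con_tmul (p : ℕ) (m : M) (η : ↥(⋀[B]^(p + 1) L)) :
    con lam p (m ⊗ₜ[B] η) = m ⊗ₜ[B] cPow lam p η := rfl

theorem con_lw (p : ℕ) (v : L) (z : Frm B L M (p + 1)) :
    con lam (p + 1) (lw (p + 1) v z) = lam v • z - lw p v (con lam p z) := by
  induction z using TensorProduct.induction_on with
  | zero => simp
  | tmul m η => rw [lw_tmul, con_tmul, cPow_ext1, con_tmul, lw_tmul, TensorProduct.tmul_sub,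
      TensorProduct.tmul_smul]
  | add a b ha hb => simp only [map_add, ha, hb, smul_add]; abel

theorem con_lw_zero (v : L) (z : Frm B L M 0) : con lam 0 (lw 0 v z) = lam v • z := by
  induction z using TensorProduct.induction_on with
  | zero => simp
  | tmul m η => rw [lw_tmul, con_tmul, cPow_ext1_zero, TensorProduct.tmul_smul]
  | add a b ha hb => simp only [map_add, ha, hb, smul_add]

/-- `(1 ⊗ lam) : M ⊗ L → M`. -/
def evalR : M ⊗[B] L →ₗ[B] M := (TensorProduct.rid B M).toLinearMap ∘ₗ TensorProduct.map LinearMap.id lam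

theorem evalR_tmul (m : M) (v : L) : evalR lam (m ⊗ₜ[B] v) = lam v • m := by
  simp [evalR]

theorem con_tw1 (p : ℕ) (z : M ⊗[B] L) (η : ↥(⋀[B]^(p + 1) L)) :
    con lam (p + 1) (tw1 (p + 1) z η) =
      evalR lam z ⊗ₜ[B] η - tw1 p z (cPow lam p η) := by
  induction z using TensorProduct.induction_on with
  | zero => simp
  | tmul m v => rw [tw1_tmul, con_tmul, cPow_ext1, evalR_tmul, tw1_tmul, TensorProduct.tmul_sub,
      TensorProduct.tmul_smul, TensorProduct.smul_tmul']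
  | add a b ha hb => simp only [map_add, LinearMap.add_apply, ha, hb, TensorProduct.add_tmul]; abel

theorem con_tw1_zero (z : M ⊗[B] L) (η : ↥(⋀[B]^0 L)) :
    con lam 0 (tw1 0 z η) = evalR lam z ⊗ₜ[B] η := by
  induction z using TensorProduct.induction_on with
  | zero => simp
  | tmul m v => rw [tw1_tmul, con_tmul, cPow_ext1_zero, evalR_tmul, TensorProduct.tmul_smul,
      TensorProduct.smul_tmul']
  | add a b ha hb => simp only [map_add, LinearMap.add_apply, ha, hb, TensorProduct.add_tmul]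

theorem ext1_comm (p : ℕ) (v w : L) (η : ↥(⋀[B]^p L)) :
    ext1 (p + 1) v (ext1 p w η) = -ext1 (p + 1) w (ext1 p v η) :=
  Subtype.ext (by
    rw [Submodule.coe_neg, coe_ext1, coe_ext1, coe_ext1, coe_ext1, ← mul_assoc, mul_comm_ι, neg_mul, mul_assoc])

section Coord

variable {ι : Type} [LinearOrder ι] (bas : Module.Basis ι B L)

/-- The coordinates on `M ⊗ Λ^p L`. -/
def coordF (p : ℕ) (s : Set.powersetCard ι p) : Frm B L M p →ₗ[B] M :=
  (TensorProduct.rid B M).toLinearMap ∘ₗ TensorProduct.map LinearMap.id ((bas.exteriorPower p).coord s)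

theorem coordF_tmul (p : ℕ) (s : Set.powersetCard ι p) (m : M) (η : ↥(⋀[B]^p L)) :
    coordF bas p s (m ⊗ₜ[B] η) = (bas.exteriorPower p).coord s η • m := by
  simp [coordF]

theorem sum_coordF [Fintype ι] (p : ℕ) [Fintype (Set.powersetCard ι p)] (z : Frm B L M p) :
    ∑ s, coordF bas p s z ⊗ₜ[B] bas.exteriorPower p s = z := by
  induction z using TensorProduct.induction_on with
  | zero => simp
  | tmul m η =>
    simp only [coordF_tmul, TensorProduct.smul_tmul, ← TensorProduct.tmul_sum]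
    exact congrArg (m ⊗ₜ[B] ·) ((bas.exteriorPower p).sum_repr η)
  | add a b ha hb => simp only [map_add, TensorProduct.add_tmul, Finset.sum_add_distrib, ha, hb]

include bas in
theorem isSMulRegular_frm [Fintype ι] (p : ℕ) [Fintype (Set.powersetCard ι p)] {x : B}
    (hx : IsSMulRegular M x) : IsSMulRegular (Frm B L M p) x := fun z z' h => by
  rw [← sum_coordF bas p z, ← sum_coordF bas p z']
  refine Finset.sum_congr rfl fun s _ => ?_
  have := congrArg (coordF bas p s) h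
  simp only [map_smul] at this
  rw [hx this]

end Coord

end Groth.Agent.LogDR45
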