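import Groth.Agent.LogDR45.Acyclic

/-!
# Multiples in a tensor product
-/

set_option autoImplicit false

universe u

open TensorProduct

namespace Groth.Agent.LogDR45

variable {B M M' N : Type u} [CommRing B] [AddCommGroup M] [Module B M] [AddCommGroup M'] [Module B M']
  [AddCommGroup N] [Module B N]

theorem range_map_eq_mult (g : M' →ₗ[B] M) (G : B) (h1 : ∀ m', ∃ m, g m' = G • m) (h2 : ∀ m, ∃ m', g m' = G • m)
    (z : M ⊗[B] N) :
    z ∈ Set.range (TensorProduct.map g (LinearMap.id : N →ₗ[B] N)) ↔ z ∈ Chart.mult G (M ⊗[B] N) := by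
  constructor
  · rintro ⟨w, rfl⟩
    induction w using TensorProduct.induction_on with
    | zero => rw [map_zero]; exact zero_mem _
    | add a b ha hb => rw [map_add]; exact add_mem ha hb
    | tmul m' η =>
      obtain ⟨m, hm⟩ := h1 m'
      exact ⟨m ⊗ₜ[B] η, by
        rw [TensorProduct.map_tmul, hm, LinearMap.lsmul_apply, TensorProduct.smul_tmul', LinearMap.id_apply]⟩
  · rintro ⟨w, rfl⟩
    induction w using TensorProduct.induction_on with
    | zero => exact ⟨0, by rw [map_zero, map_zero]⟩
    | add a b ha hb =>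
      obtain ⟨a', ha'⟩ := ha
      obtain ⟨b', hb'⟩ := hb
      exact ⟨a' + b', by rw [map_add, map_add, ha', hb']⟩
    | tmul m η =>
      obtain ⟨m', hm'⟩ := h2 m
      exact ⟨m' ⊗ₜ[B] η, by
        rw [TensorProduct.map_tmul, hm', LinearMap.lsmul_apply, TensorProduct.smul_tmul', LinearMap.id_apply]⟩

theorem map_injective_of_bijective (g : M' →ₗ[B] M) (hg : Function.Bijective g) :
    Function.Bijective (TensorProduct.map g (LinearMap.id : N →ₗ[B] N)) :=
  (TensorProduct.congr (LinearEquiv.ofBijective g hg) (LinearEquiv.refl B N)).bijective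

end Groth.Agent.LogDR45
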