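import Groth.Agent.LogDR45.Contract

/-!
# Consequences of the rule of a logarithmic de Rham complex

The rule fixes the differential on forms without poles; over a ring on which the equations of the
boundary are units every form is such a combination, so the Leibniz rule and the values on the
logarithmic coordinate forms follow.
-/

set_option autoImplicit false

universe u

open TensorProduct

noncomputable section

namespace Groth.Agent.LogDR45

variable {B L M : Type u} [CommRing B] [AddCommGroup L] [Module B L] [AddCommGroup M] [Module B M]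
  (δ : B →+ L) (nab : M →+ M ⊗[B] L) (d : ∀ p, Frm B L M p →+ Frm B L M (p + 1))

/-- The form `δ b_1 ∧ … ∧ δ b_p`. -/
def dForm {p : ℕ} (b : Fin p → B) : ↥(⋀[B]^p L) := exteriorPower.ιMulti B p fun i => δ (b i)

/-- The rule on forms without poles. -/
def IsPFRule : Prop :=
  ∀ (p : ℕ) (e : M) (b₀ : B) (b : Fin p → B),
    d p (e ⊗ₜ[B] (b₀ • dForm δ b)) =
      tw1 p (nab e) (b₀ • dForm δ b) + e ⊗ₜ[B] ext1 p (δ b₀) (dForm δ b)

/-- The Leibniz rule. -/
def IsLeib : Prop := ∀ (p : ℕ) (f : B) (z : Frm B L M p), d p (f • z) = f • d p z + lw p (δ f) z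

/-- The values on the coordinate forms. -/
def IsGenRule {ι : Type*} (bas : ι → L) : Prop :=
  ∀ (p : ℕ) (e : M) (s : Fin p → ι),
    d p (e ⊗ₜ[B] exteriorPower.ιMulti B p (bas ∘ s)) = tw1 p (nab e) (exteriorPower.ιMulti B p (bas ∘ s))

/-- Forms without poles. -/
def poleFree (p : ℕ) : AddSubgroup (Frm B L M p) :=
  AddSubgroup.closure {z | ∃ (e : M) (b₀ : B) (b : Fin p → B), z = e ⊗ₜ[B] (b₀ • dForm δ b)}

variable {δ nab d}

theorem smul_mem_poleFree (p : ℕ) (f : B) {z : Frm B L M p} (hz : z ∈ poleFree δ p) :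
    f • z ∈ poleFree δ p := by
  induction hz using AddSubgroup.closure_induction with
  | mem x hx =>
    obtain ⟨e, b₀, b, rfl⟩ := hx
    exact AddSubgroup.subset_closure ⟨e, f * b₀, b, by rw [← TensorProduct.tmul_smul, mul_smul]⟩
  | zero => rw [smul_zero]; exact zero_mem _
  | add x y _ _ hx hy => rw [smul_add]; exact add_mem hx hy
  | neg x _ hx => rw [smul_neg]; exact neg_mem hx

theorem leib_of_poleFree (hrule : IsPFRule δ nab d) (hδ : ∀ a b, δ (a * b) = a • δ b + b • δ a) (p : ℕ) (f : B)
    {z : Frm B L M p} (hz : z ∈ poleFree δ p) : d p (f • z) = f • d p z + lw p (δ f) z := by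
  induction hz using AddSubgroup.closure_induction with
  | mem x hx =>
    obtain ⟨e, b₀, b, rfl⟩ := hx
    rw [← TensorProduct.tmul_smul, ← mul_smul, hrule, hrule, hδ, lw_tmul, map_smul (ext1 p (δ f)), smul_add,
      ← TensorProduct.tmul_smul, mul_smul, map_smul (tw1 p (nab e)), map_add (ext1 p), LinearMap.add_apply,
      LinearMap.map_smul₂, LinearMap.map_smul₂, TensorProduct.tmul_add, add_assoc]
  | zero => simp
  | add x y _ _ hx hy => simp only [smul_add, map_add, hx, hy]; abel
  | neg x _ hx => simp only [smul_neg, map_neg, hx]; abel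

variable {ι : Type*} {bas : ι → L} {c : ι → B}

theorem poleFree_eq_top (hspan : Submodule.span B (Set.range bas) = ⊤) (hc : ∀ l, IsUnit (c l))
    (hcb : ∀ l, ∃ y, c l • bas l = δ y) (p : ℕ) (z : Frm B L M p) : z ∈ poleFree δ p := by
  induction z using TensorProduct.induction_on with
  | zero => exact zero_mem _
  | add a b ha hb => exact add_mem ha hb
  | tmul m η =>
    have hη : η ∈ Submodule.span B (exteriorPower.ιMulti B p '' {a | Set.range a ⊆ Set.range bas}) := by
      rw [exteriorPower.ιMulti_span_of_span B p L hspan]; trivial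
    induction hη using Submodule.span_induction generalizing m with
    | zero => rw [TensorProduct.tmul_zero]; exact zero_mem _
    | add a b _ _ ha hb => rw [TensorProduct.tmul_add]; exact add_mem (ha m) (hb m)
    | smul r a _ ha => rw [TensorProduct.tmul_smul]; exact smul_mem_poleFree p r (ha m)
    | mem y hy =>
      obtain ⟨a, ha, rfl⟩ := hy
      choose s hs using fun i => ha ⟨i, rfl⟩
      choose y hy using hcb
      have hu : IsUnit (∏ i, c (s i)) := Finset.prod_induction _ IsUnit (fun _ _ => IsUnit.mul) isUnit_one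
        fun i _ => hc (s i)
      have h1 : exteriorPower.ιMulti B p a = (↑hu.unit⁻¹ : B) • dForm δ (fun i => y (s i)) := by
        have h : dForm δ (fun i => y (s i)) = (∏ i, c (s i)) • exteriorPower.ιMulti B p a := by
          rw [dForm, show (fun i => δ (y (s i))) = fun i => c (s i) • a i from funext fun i => by rw [← hy, hs]]
          exact (exteriorPower.ιMulti B p).toMultilinearMap.map_smul_univ (fun i => c (s i)) a
        rw [h, ← mul_smul, IsUnit.val_inv_mul, one_smul]
      rw [h1]
      exact AddSubgroup.subset_closure ⟨m, _, _, rfl⟩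

theorem isLeib_of_units (hrule : IsPFRule δ nab d) (hδ : ∀ a b, δ (a * b) = a • δ b + b • δ a)
    (hspan : Submodule.span B (Set.range bas) = ⊤) (hc : ∀ l, IsUnit (c l)) (hcb : ∀ l, ∃ y, c l • bas l = δ y) :
    IsLeib δ d :=
  fun p f z => leib_of_poleFree hrule hδ p f (poleFree_eq_top hspan hc hcb p z)

theorem isGenRule_of_units (hrule : IsPFRule δ nab d) (hδ : ∀ a b, δ (a * b) = a • δ b + b • δ a)
    (hspan : Submodule.span B (Set.range bas) = ⊤) (hc : ∀ l, IsUnit (c l)) (hcb : ∀ l, ∃ y, c l • bas l = δ y)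
    (hcd : ∀ l, ∃ a : B, δ (c l) = a • bas l) : IsGenRule nab d bas := by
  intro p e s
  choose y hy using hcb
  have hu : IsUnit (∏ i, c (s i)) := Finset.prod_induction _ IsUnit (fun _ _ => IsUnit.mul) isUnit_one
    fun i _ => hc (s i)
  set ω := exteriorPower.ιMulti B p (bas ∘ s)
  have h1 : dForm δ (fun i => y (s i)) = (∏ i, c (s i)) • ω := by
    rw [dForm, show (fun i => δ (y (s i))) = fun i => c (s i) • (bas ∘ s) i from funext fun i => (hy (s i)).symm]
    exact (exteriorPower.ιMulti B p).toMultilinearMap.map_smul_univ (fun i => c (s i)) (bas ∘ s)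
  have hδ1 : δ 1 = 0 := by
    have h := hδ 1 1
    rw [one_mul, one_smul] at h
    exact left_eq_add.1 h
  have h2 := hrule p e 1 (fun i => y (s i))
  rw [one_smul, hδ1, map_zero, LinearMap.zero_apply, TensorProduct.tmul_zero, add_zero, h1,
    TensorProduct.tmul_smul, isLeib_of_units hrule hδ hspan hc (fun l => ⟨y l, hy l⟩)] at h2
  have h3 : ext1 p (δ (∏ i, c (s i))) ω = 0 := by
    refine Finset.prod_induction _ (fun q : B => ext1 p (δ q) ω = 0) (fun a b ha hb => ?_) ?_ fun i _ => ?_
    · rw [hδ, map_add, LinearMap.add_apply, LinearMap.map_smul₂, LinearMap.map_smul₂, ha, hb,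
        smul_zero, smul_zero, add_zero]
    · rw [hδ1, map_zero]; rfl
    · obtain ⟨a, ha⟩ := hcd (s i)
      rw [ha, LinearMap.map_smul₂, show bas (s i) = (bas ∘ s) i from rfl, ext1_eq_zero_of_mem, smul_zero]
  rw [lw_tmul, h3, TensorProduct.tmul_zero, add_zero, map_smul] at h2
  exact hu.smul_left_cancel.1 h2

end Groth.Agent.LogDR45
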