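import Groth.Agent.LogDR45.Rule

/-!
# Restriction of forms along a semilinear map
-/

set_option autoImplicit false

universe u

open TensorProduct exteriorPower

noncomputable section

namespace Groth.Agent.LogDR45

@[elab_as_elim]
theorem frm_induction {B L M : Type u} [CommRing B] [AddCommGroup L] [Module B L] [AddCommGroup M] [Module B M]
    {p : ℕ} {P : Frm B L M p → Prop} (z : Frm B L M p) (hgen : ∀ (m : M) (ω : Fin p → L), P (m ⊗ₜ[B] ιMulti B p ω))
    (hzero : P 0) (hadd : ∀ a b, P a → P b → P (a + b)) (hsmul : ∀ (c : B) a, P a → P (c • a)) : P z := by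
  induction z using TensorProduct.induction_on with
  | zero => exact hzero
  | add a b ha hb => exact hadd a b ha hb
  | tmul m η =>
    have hη : η ∈ Submodule.span B (Set.range (ιMulti B p (M := L))) := by rw [exteriorPower.ιMulti_span]; trivial
    induction hη using Submodule.span_induction with
    | zero => rw [TensorProduct.tmul_zero]; exact hzero
    | add a b _ _ ha hb => rw [TensorProduct.tmul_add]; exact hadd _ _ ha hb
    | smul c a _ ha => rw [TensorProduct.tmul_smul]; exact hsmul _ _ ha
    | mem y hy =>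
      obtain ⟨ω, rfl⟩ := hy
      exact hgen m ω

theorem wedge_ιMulti {B L : Type u} [CommRing B] [AddCommGroup L] [Module B L] {p : ℕ} (θ : Fin 1 → L)
    (ω : Fin p → L) : Conn.wedge p (ιMulti B 1 θ) (ιMulti B p ω) = ιMulti B (p + 1) (Fin.cons (θ 0) ω) := by
  refine Subtype.ext ?_
  rw [Conn.wedge_apply_coe, ← ext1_ιMulti, coe_ext1]
  congr 1
  simp [exteriorPower.ιMulti_apply_coe, ExteriorAlgebra.ιMulti_apply]

variable {B L M B' L' M' : Type u} [CommRing B] [AddCommGroup L] [Module B L] [AddCommGroup M] [Module B M]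
  [CommRing B'] [AddCommGroup L'] [Module B' L'] [AddCommGroup M'] [Module B' M']

/-- A restriction of forms: semilinear, and given on decomposable forms by restriction of the factors. -/
structure IsRes (σ : B → B') (rE : M → M') (rL : L → L') (r : ∀ p, Frm B L M p →+ Frm B' L' M' p) : Prop where
  gen : ∀ (p : ℕ) (m : M) (ω : Fin p → L), r p (m ⊗ₜ[B] ιMulti B p ω) = rE m ⊗ₜ[B'] ιMulti B' p (rL ∘ ω)
  smul : ∀ (p : ℕ) (c : B) (z : Frm B L M p), r p (c • z) = σ c • r p z

namespace IsRes

variable {σ : B → B'} {rE : M → M'} {rL : L → L'} {r : ∀ p, Frm B L M p →+ Frm B' L' M' p}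

theorem lw_eq (h : IsRes σ rE rL r) (p : ℕ) (v : L) (z : Frm B L M p) :
    r (p + 1) (lw p v z) = lw p (rL v) (r p z) := by
  induction z using frm_induction with
  | hgen e ω => rw [lw_tmul, ext1_ιMulti, h.gen, h.gen, lw_tmul, ext1_ιMulti, Fin.comp_cons]
  | hzero => simp
  | hadd a b ha hb => simp only [map_add, ha, hb]
  | hsmul c a ha => rw [map_smul, h.smul, ha, h.smul, map_smul]

theorem tw1_eq (h : IsRes σ rE rL r) {p : ℕ} (z : M ⊗[B] L) (z' : M' ⊗[B'] L')
    (hz : r 1 (Conn.toOne z) = Conn.toOne z') (ω : Fin p → L) :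
    r (p + 1) (tw1 p z (ιMulti B p ω)) = tw1 p z' (ιMulti B' p (rL ∘ ω)) := by
  show r (p + 1) (Conn.twedge p (Conn.toOne z) (ιMulti B p ω)) =
    Conn.twedge p (Conn.toOne z') (ιMulti B' p (rL ∘ ω))
  rw [← hz]
  clear hz z'
  generalize Conn.toOne z = w
  clear z
  induction w using frm_induction with
  | hgen e θ => rw [h.gen, Conn.twedge_tmul, Conn.twedge_tmul, wedge_ιMulti, wedge_ιMulti, h.gen, Fin.comp_cons]; rfl
  | hzero => simp
  | hadd a b ha hb => simp only [map_add, LinearMap.add_apply, ha, hb]
  | hsmul c a ha => rw [map_smul, LinearMap.smul_apply, h.smul, ha, h.smul, map_smul, LinearMap.smul_apply]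

theorem injective (h : IsRes σ rE rL r) {ι : Type} [LinearOrder ι] [Fintype ι] (bas : Module.Basis ι B L)
    (bas' : Module.Basis ι B' L') (hbas : ∀ l, bas' l = rL (bas l)) (hrE : Function.Injective rE) (hzero : rE 0 = 0)
    (p : ℕ) : Function.Injective (r p) := by
  classical
  haveI : Fintype (Set.powersetCard ι p) := Fintype.ofFinite _
  refine (injective_iff_map_eq_zero (r p)).2 fun z hz => ?_
  have key : r p z = ∑ s, rE (coordF bas p s z) ⊗ₜ[B'] bas'.exteriorPower p s := by
    conv_lhs => rw [← sum_coordF bas p z, map_sum]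
    refine Finset.sum_congr rfl fun s _ => ?_
    rw [exteriorPower.basis_apply, exteriorPower.basis_apply, exteriorPower.ιMulti_family,
      exteriorPower.ιMulti_family, h.gen]
    congr 2
    funext i
    exact (hbas _).symm
  rw [← sum_coordF bas p z]
  refine Finset.sum_eq_zero fun s _ => ?_
  have hs := congrArg (coordF bas' p s) (key.symm.trans hz)
  simp only [map_sum, map_zero, coordF_tmul, Module.Basis.coord_apply, Module.Basis.repr_self, Finsupp.single_apply,
    ite_smul, one_smul, zero_smul, Finset.sum_ite_eq', Finset.mem_univ, if_true] at hs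
  rw [hrE (hs.trans hzero.symm), TensorProduct.zero_tmul]

variable {δ : B →+ L} {nab : M →+ M ⊗[B] L} {d : ∀ p, Frm B L M p →+ Frm B L M (p + 1)}
  {δ' : B' →+ L'} {nab' : M' →+ M' ⊗[B'] L'} {d' : ∀ p, Frm B' L' M' p →+ Frm B' L' M' (p + 1)}

/-- The Leibniz rule descends along an injective restriction. -/
theorem isLeib (h : IsRes σ rE rL r) (hinj : ∀ p, Function.Injective (r p))
    (hd : ∀ p z, r (p + 1) (d p z) = d' p (r p z)) (hδ : ∀ b, rL (δ b) = δ' (σ b)) (h' : IsLeib δ' d') :
    IsLeib δ d := fun p f z => hinj (p + 1) <| by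
  rw [hd, h.smul, h', map_add, h.smul, hd, h.lw_eq, hδ]

/-- The values on coordinate forms descend along an injective restriction. -/
theorem isGenRule (h : IsRes σ rE rL r) (hinj : ∀ p, Function.Injective (r p))
    (hd : ∀ p z, r (p + 1) (d p z) = d' p (r p z)) (hnab : ∀ e, r 1 (Conn.toOne (nab e)) = Conn.toOne (nab' (rE e)))
    {ι : Type} {bas : ι → L} (h' : IsGenRule nab' d' (rL ∘ bas)) : IsGenRule nab d bas := fun p e s => hinj (p + 1) <| by
  rw [hd, h.gen, h.tw1_eq (nab e) (nab' (rE e)) (hnab e), ← Function.comp_assoc]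
  exact h' p (rE e) s

end IsRes

section Map

variable {B L M M' : Type u} [CommRing B] [AddCommGroup L] [Module B L] [AddCommGroup M] [Module B M]
  [AddCommGroup M'] [Module B M'] {δ : B →+ L} {nab : M →+ M ⊗[B] L} {d : ∀ p, Frm B L M p →+ Frm B L M (p + 1)}
  {nab' : M' →+ M' ⊗[B] L} {d' : ∀ p, Frm B L M' p →+ Frm B L M' (p + 1)}

/-- A horizontal map commutes with the differentials on forms without poles. -/
theorem map_comm_poleFree (hrule : IsPFRule δ nab d) (hrule' : IsPFRule δ nab' d') (g : M' →ₗ[B] M)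
    (hg : ∀ e, TensorProduct.map g LinearMap.id (nab' e) = nab (g e)) (p : ℕ) {z : Frm B L M' p}
    (hz : z ∈ poleFree δ p) :
    TensorProduct.map g LinearMap.id (d' p z) = d p (TensorProduct.map g LinearMap.id z) := by
  have htw : ∀ (w : M' ⊗[B] L) (η : ↥(⋀[B]^p L)),
      TensorProduct.map g LinearMap.id (tw1 p w η) = tw1 p (TensorProduct.map g LinearMap.id w) η := fun w η => by
    induction w using TensorProduct.induction_on with
    | zero => simp
    | tmul e v => rw [tw1_tmul, TensorProduct.map_tmul, TensorProduct.map_tmul, tw1_tmul]; rfl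
    | add a b ha hb => simp only [map_add, LinearMap.add_apply, ha, hb]
  induction hz using AddSubgroup.closure_induction with
  | mem x hx =>
    obtain ⟨e, b₀, b, rfl⟩ := hx
    rw [hrule', map_add, htw, hg, TensorProduct.map_tmul, TensorProduct.map_tmul, LinearMap.id_apply,
      LinearMap.id_apply, hrule]
  | zero => simp
  | add a b _ _ ha hb => simp only [map_add, ha, hb]
  | neg a _ ha => simp only [map_neg, ha]

end Map

end Groth.Agent.LogDR45
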