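import Groth.Agent.LogDR45.Acyclic

/-!
# The complex twisted by the inverse of a monomial, in coordinates
-/

set_option autoImplicit false

universe u

open TensorProduct

noncomputable section

namespace Groth.Agent.LogDR45

variable {B L M : Type u} [CommRing B] [AddCommGroup L] [Module B L] [AddCommGroup M] [Module B M]
  {ι : Type} [LinearOrder ι] [Fintype ι]

namespace Chart

variable (C : Chart B L M ι) (μ : ι → ℕ)

/-- The differential `d - (dlog x^μ) ∧`. -/
def dUn (p : ℕ) : Frm B L M p →+ Frm B L M (p + 1) := C.d p - (lw p (C.alpha μ)).toAddMonoidHom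

omit [LinearOrder ι] [Fintype ι] in
theorem dUn_apply (p : ℕ) (z : Frm B L M p) : C.dUn μ p z = C.d p z - lw p (C.alpha μ) z := rfl

/-- The connection `∇ - dlog x^μ`. -/
def nabUn : M →+ M ⊗[B] L :=
  AddMonoidHom.mk' (fun e => C.nab e - e ⊗ₜ[B] C.alpha μ) fun a b => by
    rw [map_add, TensorProduct.add_tmul]; abel

/-- The coordinate description of the twist by the inverse of the monomial. -/
def untwist (hdd : ∀ p z, C.dUn μ (p + 1) (C.dUn μ p z) = 0) : Chart B L M ι where
  δ := C.δ
  bas := C.bas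
  J := C.J
  x := C.x
  nab := C.nabUn μ
  d := C.dUn μ
  δ_mul := C.δ_mul
  δ_x := C.δ_x
  regular := C.regular
  res_δ := C.res_δ
  d_d := hdd
  leib p g z := by
    simp only [dUn_apply, C.leib p g z, map_smul, smul_sub]
    abel
  gen p e s := by
    show C.dUn μ p _ = tw1 p (C.nab e - e ⊗ₜ[B] C.alpha μ) _
    rw [dUn_apply, C.gen p e s, map_sub, LinearMap.sub_apply, lw_tmul, tw1_tmul]

omit [LinearOrder ι] [Fintype ι] in
/-- The shifted residues of the twist. -/
theorem untwist_theta (hdd : ∀ p z, C.dUn μ (p + 1) (C.dUn μ p z) = 0) (ν : ι → ℕ) {j : ι} (hj : j ∈ C.J) (e : M) :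
    (C.untwist μ hdd).theta ν j e = evalR (C.bas.coord j) (C.nab e) - μ j • e + ν j • e := by
  refine ((C.untwist μ hdd).theta_eq ν hj e).trans ?_
  congr 1
  show evalR (C.bas.coord j) (C.nab e - e ⊗ₜ[B] C.alpha μ) = _
  rw [map_sub]
  congr 1
  have h := C.theta_eq μ hj e
  rw [theta, nabTw, map_add] at h
  exact add_left_cancel h

end Chart

end Groth.Agent.LogDR45
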